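import Cfsg.Agent.SUTwoGen.Root

/-!
The special unitary group in dimension at least four is generated by two elements: a torus element and a root
element times a monomial element.
-/

set_option autoImplicit false
set_option maxHeartbeats 1000000
set_option linter.unusedSectionVars false
set_option linter.unusedSimpArgs false

namespace Cfsg.Agent.SUTwoGen

open Matrix Classical.Herm Cfsg.Agent.AutPSU Cfsg.Agent.SUGen
open scoped commutatorElement

variable {n q : ℕ} {F : Type*} [Field F] [Fintype F] {σ : F →+* F} (hu : UCtx σ q)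

/-- The points of a cycle. -/
def cp (w : Su n F q) (e : Vn n F) (k : ℕ) : Vn n F := mat (w ^ k) *ᵥ e

omit [Fintype F] in
theorem cp_zero (w : Su n F q) (e : Vn n F) : cp w e 0 = e := by rw [cp, pow_zero, mat_one_mulVec]

omit [Fintype F] in
theorem cp_add (w : Su n F q) (e : Vn n F) (i j : ℕ) : cp w e (i + j) = mat (w ^ i) *ᵥ cp w e j := by
  rw [cp, pow_add, mat_mul_mulVec]; rfl

include hu

/-- Data of a cycle of isotropic points. -/
structure SCyc (σ : F →+* F) (w : Su n F q) (e : Vn n F) (m : ℕ) : Prop where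
  two : 2 ≤ m
  iso : hB n σ e e = 0
  perp : ∀ d, d % (2 * m) ≠ m → hB n σ e (cp w e d) = 0
  pair : hB n σ e (cp w e m) ≠ 0
  per : ∃ τ : F, τ ≠ 0 ∧ cp w e (2 * m) = τ • e

/-- All multiples of a point are usable without central part. -/
def LL (H : Subgroup (Su n F q)) (w : Su n F q) (e : Vn n F) (d : ℕ) : Prop :=
  hB n σ e (cp w e d) = 0 ∧ ∀ x : F, eS hu e (x • cp w e d) 0 ∈ H

variable {H : Subgroup (Su n F q)} {w : Su n F q} {e : Vn n F} {m : ℕ} (C : SCyc σ w e m) (hw : w ∈ H)
include C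

theorem SCyc.iso' (k : ℕ) : hB n σ (cp w e k) (cp w e k) = 0 := by rw [cp, hB_mat hu]; exact C.iso

theorem SCyc.perp' (i d : ℕ) (hd : d % (2 * m) ≠ m) : hB n σ (cp w e i) (cp w e (i + d)) = 0 := by
  rw [cp_add, cp, hB_mat hu]; exact C.perp d hd

theorem SCyc.pair' (i : ℕ) : hB n σ (cp w e i) (cp w e (i + m)) ≠ 0 := by
  rw [cp_add, cp, hB_mat hu]; exact C.pair

theorem SCyc.isE_LL {d : ℕ} (h : hB n σ e (cp w e d) = 0) (x : F) : IsE σ e (x • cp w e d) 0 := by
  refine ⟨C.iso, ?_, ?_⟩
  · rw [map_smulₛₗ, LinearMap.smul_apply, (eq_zero_comm (hu.isHerm n)).1 h, smul_zero]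
  · rw [Classical.Herm.smul_self (hu.isHerm n), C.iso' hu]; simp

include hw

theorem SCyc.shift_mem {d : ℕ} (h : LL hu H w e d) (i : ℕ) (x : F) :
    eS hu (cp w e i) (x • cp w e (i + d)) 0 ∈ H := by
  have h1 := mul_mem (mul_mem (pow_mem hw i) (h.2 x)) (inv_mem (pow_mem hw i))
  rwa [suConj hu _ (C.isE_LL hu h.1 x), Matrix.mulVec_smul, ← cp_add] at h1

theorem SCyc.L_sub_period {d : ℕ} (h : LL hu H w e (d + 2 * m)) : LL hu H w e d := by
  obtain ⟨τ, hτ, hper⟩ := C.per
  have e1 : cp w e (d + 2 * m) = τ • cp w e d := by rw [cp_add, hper, Matrix.mulVec_smul]; rfl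
  refine ⟨?_, fun x => ?_⟩
  · have := h.1
    rw [e1, map_smul, smul_eq_mul] at this
    exact (mul_eq_zero.1 this).resolve_left hτ
  · have := h.2 (x / τ)
    rwa [e1, smul_smul, div_mul_cancel₀ _ hτ] at this

theorem SCyc.L_add_period {d : ℕ} (h : LL hu H w e d) : LL hu H w e (d + 2 * m) := by
  obtain ⟨τ, hτ, hper⟩ := C.per
  have e1 : cp w e (d + 2 * m) = τ • cp w e d := by rw [cp_add, hper, Matrix.mulVec_smul]; rfl
  exact ⟨by rw [e1, map_smul, h.1, smul_zero], fun x => by rw [e1, smul_smul]; exact h.2 _⟩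

theorem SCyc.L_congr {d d' : ℕ} (h : LL hu H w e d) (e1 : d % (2 * m) = d' % (2 * m)) : LL hu H w e d' := by
  have up : ∀ r k, LL hu H w e r → LL hu H w e (r + 2 * m * k) := fun r k hr => by
    induction k with
    | zero => simpa using hr
    | succ k ih => rw [Nat.mul_succ, ← add_assoc]; exact C.L_add_period hu hw ih
  have down : ∀ r k, LL hu H w e (r + 2 * m * k) → LL hu H w e r := fun r k => by
    induction k with
    | zero => simp
    | succ k ih => exact fun hr => ih (C.L_sub_period hu hw (by rwa [Nat.mul_succ, ← add_assoc] at hr))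
  have hb := down (d % (2 * m)) (d / (2 * m)) (by rwa [Nat.mod_add_div])
  have := up _ (d' / (2 * m)) hb
  rwa [e1, Nat.mod_add_div] at this

theorem SCyc.L_symm {d d' : ℕ} (h : LL hu H w e d) (hd : d' + d = 2 * m) : LL hu H w e d' := by
  obtain ⟨τ, hτ, hper⟩ := C.per
  have h0 : hB n σ (cp w e d') e = 0 := by
    have h3 : hB n σ (cp w e d') (cp w e (d' + d)) = 0 := by rw [cp_add, cp, hB_mat hu]; exact h.1
    rw [hd, hper, map_smul, smul_eq_mul] at h3
    exact (mul_eq_zero.1 h3).resolve_left hτ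
  refine ⟨(eq_zero_comm (hu.isHerm n)).1 h0, fun z => ?_⟩
  have h1 := C.shift_mem hu hw h d' (σ (-z) / τ)
  rwa [hd, hper, smul_smul, div_mul_cancel₀ _ hτ, eS_swap hu C.iso (C.iso' hu d') h0, hu.invol, neg_neg] at h1

theorem SCyc.L_comp {a b : ℕ} (ha : LL hu H w e a) (hb : LL hu H w e b) (h1 : (a + m) % (2 * m) ≠ m)
    (h2 : (m + b) % (2 * m) ≠ m) (h3 : (a + m + b) % (2 * m) ≠ m) : LL hu H w e (a + m + b) := by
  refine ⟨C.perp _ h3, fun x => ?_⟩
  have hHerm := hu.isHerm n
  have hpq : hB n σ (cp w e (a + m)) (cp w e (a + m + b)) = 0 := by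
    rw [cp_add w e (a + m), cp, hB_mat hu]; exact hb.1
  have hva : hB n σ (cp w e a) (cp w e (a + m + b)) = 0 := by
    rw [add_assoc]; exact C.perp' hu a _ h2
  have hgE : IsE σ (cp w e (a + m)) ((1 : F) • cp w e (a + m + b)) 0 := by
    refine ⟨C.iso' hu _, ?_, ?_⟩
    · rw [one_smul]; exact (eq_zero_comm hHerm).1 hpq
    · rw [one_smul, C.iso' hu]; simp
  have hg := C.shift_mem hu hw hb (a + m) 1
  have hge : mat (eS hu (cp w e (a + m)) ((1 : F) • cp w e (a + m + b)) 0) *ᵥ e = e := by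
    rw [eS_mulVec hu hgE, (eq_zero_comm hHerm).1 (C.perp _ h1), one_smul, (eq_zero_comm hHerm).1 (C.perp _ h3)]
    simp
  set κ := hB n σ (cp w e (a + m)) (cp w e a) with hκdef
  have hκ : κ ≠ 0 := fun h => C.pair' hu a ((eq_zero_comm hHerm).1 h)
  have hav := comm_step hu hg hge (C.isE_LL hu ha.1 (x / κ)) (ha.2 _)
  have e1 : mat (eS hu (cp w e (a + m)) ((1 : F) • cp w e (a + m + b)) 0) *ᵥ ((x / κ) • cp w e a) -
      (x / κ) • cp w e a = x • cp w e (a + m + b) := by
    rw [eS_mulVec hu hgE]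
    simp only [map_smul, smul_eq_mul, one_smul, (eq_zero_comm hHerm).1 hva, ← hκdef, div_mul_cancel₀ _ hκ,
      mul_zero, zero_mul, sub_zero, zero_smul, add_zero, add_sub_cancel_left]
  rw [e1] at hav
  have e2 : hB n σ (x • cp w e (a + m + b)) ((x / κ) • cp w e a) = 0 := by
    rw [map_smul, map_smulₛₗ, LinearMap.smul_apply, (eq_zero_comm hHerm).1 hva, smul_zero, smul_zero]
  rwa [e2] at hav

/-- One step whose offset generates gives all points. -/
theorem SCyc.L_all {d₀ : ℕ} (h : LL hu H w e d₀) (hd : d₀ < m) (hd0 : 0 < d₀)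
    (hcop : Nat.Coprime (d₀ + m) (2 * m)) (d : ℕ) (h1 : d % (2 * m) ≠ m) (h2 : d % (2 * m) ≠ 0) :
    LL hu H w e d := by
  have hm := C.two
  set a := d₀ + m with ha
  have hz : ∀ j, 0 < j → j < 2 * m → j * a % (2 * m) ≠ 0 := fun j hj hj' h0 => by
    have := (hcop.symm.dvd_of_dvd_mul_right (Nat.dvd_of_mod_eq_zero h0))
    exact absurd (Nat.le_of_dvd hj this) (by omega)
  have hhalf : ∀ j, 0 < j → j < m → j * a % (2 * m) ≠ m := fun j hj hj' h0 => by
    refine hz (2 * j) (by omega) (by omega) ?_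
    rw [mul_assoc, Nat.mul_mod, h0, Nat.mod_eq_of_lt (show 2 < 2 * m by omega), Nat.mod_self]
  have hL : ∀ j, 0 < j → j < m → LL hu H w e (j * a + m) := by
    intro j
    induction j with
    | zero => exact fun h => absurd h (lt_irrefl _)
    | succ j ih =>
      intro _ hj
      rcases Nat.eq_zero_or_pos j with rfl | hj0
      · have := C.L_add_period hu hw h
        rwa [show d₀ + 2 * m = (0 + 1) * a + m by omega] at this
      have key := C.L_comp hu hw (ih hj0 (by omega)) h ?_ ?_ ?_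
      · refine C.L_congr hu hw key ?_
        rw [show j * a + m + m + d₀ = (j + 1) * a + m by rw [Nat.succ_mul]; omega]
      · rw [show j * a + m + m = j * a + 2 * m by omega, Nat.add_mod_right]; exact hhalf j hj0 (by omega)
      · rw [Nat.mod_eq_of_lt (by omega)]; omega
      · intro h0
        refine hz (j + 1) (by omega) (by omega) ?_
        have : (j * a + m + m + d₀ + m) % (2 * m) = 0 := by
          rw [Nat.add_mod, h0]
          simp [show m % (2 * m) = m from Nat.mod_eq_of_lt (by omega), show m + m = 2 * m by omega]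
        rwa [show j * a + m + m + d₀ + m = (j + 1) * a + 2 * m by rw [Nat.succ_mul]; omega,
          Nat.add_mod_right] at this
  -- solve for the multiplier
  obtain ⟨j, hj, hjd⟩ : ∃ j < 2 * m, j * a % (2 * m) = (d + m) % (2 * m) := by
    haveI : NeZero (2 * m) := ⟨by omega⟩
    refine ⟨((d + m : ℕ) * (ZMod.unitOfCoprime a hcop)⁻¹.1 : ZMod (2 * m)).val, ZMod.val_lt _, ?_⟩
    rw [← ZMod.val_natCast, ← ZMod.val_natCast (2 * m) (d + m)]
    congr 1
    rw [Nat.cast_mul, ZMod.natCast_val, ZMod.cast_id, mul_assoc]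
    conv_rhs => rw [← mul_one ((d + m : ℕ) : ZMod (2 * m))]
    congr 1
    rw [← ZMod.coe_unitOfCoprime a hcop, ← Units.val_mul, inv_mul_cancel, Units.val_one]
  have hne0 : j ≠ 0 := fun h0 => by
    rw [h0, zero_mul, Nat.zero_mod] at hjd
    refine h1 ?_
    have hlt : d % (2 * m) < 2 * m := Nat.mod_lt _ (by omega)
    rw [← Nat.mod_add_mod] at hjd
    rcases Nat.lt_or_ge (d % (2 * m) + m) (2 * m) with hl | hl
    · rw [Nat.mod_eq_of_lt hl] at hjd; omega
    · rw [Nat.mod_eq_sub_mod hl, Nat.mod_eq_of_lt (by omega)] at hjd; omega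
  have hback : (j * a + m) % (2 * m) = d % (2 * m) := by
    rw [Nat.add_mod, hjd, ← Nat.add_mod, show d + m + m = d + 2 * m by omega, Nat.add_mod_right]
  rcases lt_trichotomy j m with hl | hl | hl
  · exact C.L_congr hu hw (hL j (by omega) hl) hback
  · refine absurd ?_ h2
    rw [← hback, hl]
    have hodd : a % 2 = 1 := by
      by_contra h0
      exact absurd (Nat.dvd_gcd (Nat.dvd_of_mod_eq_zero (show a % 2 = 0 by omega)) (dvd_mul_right 2 m))
        (by rw [hcop.gcd_eq_one]; decide)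
    obtain ⟨k, hk⟩ : ∃ k, a = 2 * k + 1 := ⟨a / 2, by omega⟩
    rw [hk, show m * (2 * k + 1) + m = (k + 1) * (2 * m) by ring, Nat.mul_mod_left]
  · have key := hL (2 * m - j) (by omega) (by omega)
    have hlt : d % (2 * m) < 2 * m := Nat.mod_lt _ (by omega)
    have key' : LL hu H w e (2 * m - d % (2 * m)) := by
      refine C.L_congr hu hw key ?_
      have e3 : ((2 * m - j) * a + m + (j * a + m)) % (2 * m) = 0 := by
        rw [show (2 * m - j) * a + m + (j * a + m) = ((2 * m - j) + j) * a + 2 * m by ring,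
          Nat.sub_add_cancel (by omega), Nat.add_mod_right, Nat.mul_mod_right]
      rw [Nat.add_mod, hback] at e3
      rw [Nat.mod_eq_of_lt (by omega : 2 * m - d % (2 * m) < 2 * m)]
      generalize d % (2 * m) = r at hlt h2 e3 ⊢
      have hlt2 : ((2 * m - j) * a + m) % (2 * m) < 2 * m := Nat.mod_lt _ (by omega)
      generalize ((2 * m - j) * a + m) % (2 * m) = s at hlt2 e3 ⊢
      rcases Nat.lt_or_ge (s + r) (2 * m) with hl' | hl'
      · rw [Nat.mod_eq_of_lt hl'] at e3; omega
      · rw [Nat.mod_eq_sub_mod hl', Nat.mod_eq_of_lt (by omega)] at e3; omega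
    exact C.L_congr hu hw (C.L_symm hu hw key' (d' := d % (2 * m)) (by omega)) (Nat.mod_mod _ _)

omit C hw

/-- The special unitary group is generated by two elements in dimension at least four. -/
theorem su_two_gen (hn : n = 2 * m ∨ n = 2 * m + 1) (hm : 2 ≤ m) :
    ∃ a b : Su n F q, Subgroup.closure ({a, b} : Set (Su n F q)) = ⊤ := by
  classical
  have hH := hu.isHerm n
  obtain ⟨p, P⟩ := exists_gframe hu hn hm
  obtain ⟨w, hwp, hwu⟩ := P.exists_cycle hu
  obtain ⟨γ, hγ⟩ := IsCyclic.exists_generator (α := Fˣ)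
  obtain ⟨h, hh0, hh1, hh2, hh3, hhfix⟩ := P.exists_torus hu γ.ne_zero
  set e := p (pos n m 0) with he
  set f := p (pos n m (0 + m)) with hf
  have HPef : HP σ e f := P.hp_pos hu (by omega)
  -- the points
  have hcp : ∀ k, ∃ s : F, s ≠ 0 ∧ cp w e k = s • p (pos n m k) := fun k => by
    induction k with
    | zero => exact ⟨1, one_ne_zero, by rw [cp_zero, one_smul]⟩
    | succ k ih =>
      obtain ⟨s, hs, e1⟩ := ih
      obtain ⟨s', hs', e2⟩ := hwp k
      refine ⟨s * s', mul_ne_zero hs hs', ?_⟩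
      rw [add_comm k 1, cp_add, e1, Matrix.mulVec_smul, pow_one, e2, smul_smul, add_comm 1 k]
  have hpos : ∀ i j, i < 2 * m → j < 2 * m → pos n m i = pos n m j → i = j := fun i j hi hj => by
    unfold pos
    rw [Nat.mod_eq_of_lt hi, Nat.mod_eq_of_lt hj]
    split_ifs <;> omega
  have C : SCyc σ w e m := by
    refine ⟨hm, HPef.ee, fun d hd => ?_, ?_, ?_⟩
    · obtain ⟨s, -, e1⟩ := hcp d
      have hlt : d % (2 * m) < 2 * m := Nat.mod_lt _ (by omega)
      rw [e1, map_smul, he, ← pos_mod n m d, P.herm _ _ (P.pos_lt _) (P.pos_lt _), if_neg, smul_zero]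
      rw [P.pos_sum (by omega) hlt]; omega
    · obtain ⟨s, hs, e1⟩ := hcp m
      rw [e1, map_smul, show pos n m m = pos n m (0 + m) by rw [zero_add], ← hf, HPef.ef, smul_eq_mul, mul_one]
      exact hs
    · obtain ⟨s, hs, e1⟩ := hcp (2 * m)
      exact ⟨s, hs, by rw [e1, he, ← pos_mod n m (2 * m), Nat.mod_self]⟩
  have hcover : ∀ i < n, (∃ k < 2 * m, i = pos n m k) ∨ (n = 2 * m + 1 ∧ i = m) := by
    intro i hi
    by_cases h1 : i < m
    · exact Or.inl ⟨i, by omega, by unfold pos; rw [Nat.mod_eq_of_lt (by omega)]; split_ifs <;> omega⟩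
    by_cases h2 : i < n - m
    · exact Or.inr ⟨by omega, by omega⟩
    · exact Or.inl ⟨m + (n - 1 - i), by omega, by
        unfold pos; rw [Nat.mod_eq_of_lt (by omega)]; split_ifs <;> omega⟩
  -- the conjugate of the torus element
  set h' := w * h * w⁻¹ with hh'
  have htrans : ∀ k (t : F), mat h *ᵥ p (pos n m k) = t • p (pos n m k) →
      mat h' *ᵥ p (pos n m (k + 1)) = t • p (pos n m (k + 1)) := fun k t ht => by
    obtain ⟨s, hs, e1⟩ := hwp k
    have e2 : p (pos n m (k + 1)) = s⁻¹ • (mat w *ᵥ p (pos n m k)) := by rw [e1, inv_smul_smul₀ hs]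
    rw [e2, hh', Matrix.mulVec_smul, mat_mul_mulVec, mat_mul_mulVec, mat_inv_mulVec, ht, Matrix.mulVec_smul,
      smul_comm]
  have hhm : n = 2 * m + 1 → mat h *ᵥ p m = p m := fun ho => by
    refine hhfix m (by omega) ?_ ?_ ?_ ?_ <;>
      (unfold pos; rw [Nat.mod_eq_of_lt (by omega)]; split_ifs <;> omega)
  have hhm' : n = 2 * m + 1 → mat h' *ᵥ p m = p m := fun ho => by
    have e2 : mat w⁻¹ *ᵥ p m = p m := by conv_lhs => rw [← hwu ho, mat_inv_mulVec]
    rw [hh', mat_mul_mulVec, mat_mul_mulVec, e2, hhm ho, hwu ho]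
  have hdiag : ∀ i < n, ∃ t : F, mat h *ᵥ p i = t • p i := fun i hi => by
    by_cases h1 : i = pos n m 0
    · exact ⟨_, by rw [h1]; exact hh0⟩
    by_cases h2 : i = pos n m (0 + m)
    · exact ⟨_, by rw [h2]; exact hh3⟩
    by_cases h3 : i = pos n m (m - 1)
    · exact ⟨_, by rw [h3]; exact hh1⟩
    by_cases h4 : i = pos n m (m - 1 + m)
    · exact ⟨_, by rw [h4]; exact hh2⟩
    exact ⟨1, by rw [one_smul]; exact hhfix i hi h1 h2 h3 h4⟩
  have hdiag' : ∀ i < n, ∃ t : F, mat h' *ᵥ p i = t • p i := fun i hi => by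
    rcases hcover i hi with ⟨k, hk, rfl⟩ | ⟨ho, rfl⟩
    · obtain ⟨t, ht⟩ := hdiag _ (P.pos_lt (k + (2 * m - 1)))
      refine ⟨t, ?_⟩
      have := htrans _ _ ht
      rwa [show pos n m (k + (2 * m - 1) + 1) = pos n m k by
        rw [← pos_mod n m (k + (2 * m - 1) + 1), show k + (2 * m - 1) + 1 = k + 2 * m by omega, Nat.add_mod_right,
          pos_mod]] at this
    · exact ⟨1, by rw [one_smul]; exact hhm' ho⟩
  have hcomm : Commute h h' := by
    refine su_ext_mulVec fun x => ?_
    obtain ⟨c, hc⟩ := P.span x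
    simp only [hc, mat_mul_mulVec, Matrix.mulVec_sum, Matrix.mulVec_smul]
    refine Finset.sum_congr rfl fun i _ => ?_
    obtain ⟨t, ht⟩ := hdiag i i.2
    obtain ⟨t', ht'⟩ := hdiag' i i.2
    rw [ht', Matrix.mulVec_smul, ht, Matrix.mulVec_smul, ht', smul_comm t' t]
  have he' : mat h' *ᵥ e = (γ : F)⁻¹ • e := by
    have := htrans (m - 1 + m) _ hh2
    rwa [← pos_mod n m (m - 1 + m + 1), show m - 1 + m + 1 = 2 * m by omega, Nat.mod_self] at this
  -- the generator is moved
  have hσγ : σ (γ : F) ≠ γ := fun hfix => by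
    obtain ⟨b, hb⟩ := exists_moved hu.toIsInvol
    have hb0 : b ≠ 0 := fun h0 => hb (by rw [h0, map_zero])
    obtain ⟨k, hk⟩ := hγ (Units.mk0 b hb0)
    refine hb ?_
    have e1 := congrArg Units.val hk
    simp only [Units.val_zpow_eq_zpow_val, Units.val_mk0] at e1
    rw [← e1, map_zpow₀, hfix]
  have hγ1 : σ (γ : F) ≠ 1 := fun h1 => hσγ (by
    have h2 := congrArg σ h1
    rw [hu.invol, map_one] at h2
    rw [h1, h2])
  have hγ2 : σ (γ : F) ^ 2 ≠ 1 := fun h1 => by
    rcases sq_eq_one_iff.1 h1 with h2 | h2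
    · exact hγ1 h2
    · have h3 := congrArg σ h2
      rw [hu.invol, map_neg, map_one] at h3
      exact hσγ (by rw [h2, h3])
  let γ' : Fˣ := Units.map σ.toMonoidHom γ
  have hγ' : ∀ x : Fˣ, x ∈ Subgroup.zpowers γ' := fun x => by
    obtain ⟨k, hk⟩ := hγ (Units.map σ.toMonoidHom x)
    refine ⟨k, ?_⟩
    show γ' ^ k = x
    rw [show γ' ^ k = Units.map σ.toMonoidHom (γ ^ k) from (map_zpow _ _ _).symm, show γ ^ k = _ from hk]
    exact Units.ext (hu.invol _)
  have hγv : ((γ' : Fˣ) : F) = σ γ := rfl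
  have hσinv : σ ((γ : F)⁻¹) = (σ γ)⁻¹ := map_inv₀ σ _
  have hσ0 : σ (γ : F) ≠ 0 := (map_ne_zero σ).2 γ.ne_zero
  -- general step from the two generators
  have main : ∀ (v : Vn n F) (μ μ' : F) (x : Su n F q), IsU hu e v x 1 → mat h *ᵥ v = μ • v →
      mat h' *ᵥ v = μ' • v → (σ (γ : F) * μ = γ' ∨ σ (γ : F) * μ = (γ' : F) ^ 2) →
      σ (γ : F) * μ ≠ 1 → σ ((γ : F)⁻¹) * μ' ≠ 1 →
      ∀ y : F, y ∈ parU hu e v C.iso (Subgroup.closure ({h, x * w} : Set (Su n F q))) := by
    intro v μ μ' x hx hv hv' hα hα1 hα2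
    set H := Subgroup.closure ({h, x * w} : Set (Su n F q))
    have hhH : h ∈ H := Subgroup.subset_closure (by simp)
    have hbH : x * w ∈ H := Subgroup.subset_closure (by simp)
    have hy := commutator_root hu hx γ.ne_zero (inv_ne_zero γ.ne_zero) hh0 hv he' hv' hcomm
    have hyH : ⁅h, x * h' * x⁻¹⁆ ∈ H := by
      rw [show x * h' * x⁻¹ = (x * w) * h * (x * w)⁻¹ by rw [hh']; group, commutatorElement_def]
      have h2 := mul_mem (mul_mem hbH hhH) (inv_mem hbH)
      exact mul_mem (mul_mem (mul_mem hhH h2) (inv_mem hhH)) (inv_mem h2)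
    exact parU_top hu hhH γ.ne_zero hh0 hv ⟨_, hyH, hy⟩
      (mul_ne_zero (mul_ne_zero (sub_ne_zero.2 hα1) (sub_ne_zero.2 hα2.symm)) one_ne_zero) hγ' hα
  -- conclusion from the radical
  have conclude : ∀ H : Subgroup (Su n F q), w ∈ H → InM hu H e 0 →
      (∀ k, k % (2 * m) ≠ m → InM hu H e (p (pos n m k))) →
      (n = 2 * m + 1 → InM hu H e (p m)) → H = ⊤ := by
    intro H hwH hc hk hmid
    obtain ⟨s, hs, e1⟩ := hcp m
    refine top_of_radical hu (by omega) (by omega) HPef ?_ (pow_mem hwH m) hs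
      (by rw [← show cp w e m = mat (w ^ m) *ᵥ e from rfl, e1, hf, zero_add])
    intro x d hE
    obtain ⟨c, hc'⟩ := P.span x
    have hM : InM hu H e x := by
      rw [hc']
      refine InM.sum hu C.iso hc _ _ fun i _ => ?_
      rcases hcover i i.2 with ⟨k, hk2, hi⟩ | ⟨ho, hi⟩
      · by_cases hkm : k = m
        · have h0 : c i = 0 := by
            rw [P.coord hu hc' i, show n - 1 - (i : ℕ) = pos n m 0 by
              rw [hi, hkm]; unfold pos
              rw [Nat.zero_mod, Nat.mod_eq_of_lt (by omega)]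
              split_ifs <;> omega, ← he]
            exact hE.ea hu
          rw [h0, zero_smul]; exact hc
        · rw [hi]; exact InM.smul hu (hk k (by rw [Nat.mod_eq_of_lt hk2]; exact hkm)) _
      · rw [hi]; exact InM.smul hu (hmid ho) _
    have := hM.2 1 d (by rwa [one_smul])
    rwa [one_smul] at this
  have hk0 : ∀ (H : Subgroup (Su n F q)), InM hu H e 0 → ∀ k, k % (2 * m) = 0 → InM hu H e (p (pos n m k)) := by
    intro H hc k hk0
    rw [← pos_mod n m k, hk0, ← he]
    refine ⟨C.iso, fun x d hE => ?_⟩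
    have h1 : IsE σ e 0 (d + x - σ x) := by
      refine isE_zero C.iso ?_
      have h2 := hE.tr
      simp only [map_smul, map_smulₛₗ, LinearMap.smul_apply, C.iso, smul_zero, neg_zero] at h2
      simp only [map_add, map_sub, hu.invol]
      linear_combination h2
    have h3 := eS_shift hu x h1
    rw [zero_add] at h3
    rw [h3]
    exact InM.central hu hc C.iso (by have := h1.tr; simpa using this)
  rcases hn with heven | hodd
  · -- even dimension
    obtain ⟨d₀, hd₀, hd₀', hcop⟩ : ∃ d₀, 0 < d₀ ∧ d₀ < m ∧ Nat.Coprime (d₀ + m) (2 * m) := by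
      rcases Nat.even_or_odd m with ⟨k, hk⟩ | ⟨k, hk⟩
      · refine ⟨1, one_pos, by omega, Nat.Coprime.mul_right ?_ ?_⟩
        · exact Nat.coprime_two_right.2 ⟨k, by omega⟩
        · exact Nat.coprime_add_self_left.2 (Nat.coprime_one_left m)
      · refine ⟨2, two_pos, by omega, Nat.Coprime.mul_right ?_ ?_⟩
        · exact Nat.coprime_two_right.2 ⟨k + 1, by omega⟩
        · exact Nat.coprime_add_self_left.2 (Nat.coprime_two_left.2 ⟨k, by omega⟩)
    set v := p (pos n m d₀) with hv
    have hvv : hB n σ v v = 0 := by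
      rw [hv, P.herm _ _ (P.pos_lt _) (P.pos_lt _), if_neg]
      rw [P.pos_sum (by omega) (by omega)]; omega
    have hev : hB n σ e v = 0 := by
      rw [hv, he, P.herm _ _ (P.pos_lt _) (P.pos_lt _), if_neg]
      rw [P.pos_sum (by omega) (by omega)]; omega
    have hE : ∀ y : F, IsE σ e (y • v) 0 := fun y =>
      ⟨C.iso, by rw [map_smulₛₗ, LinearMap.smul_apply, (eq_zero_comm hH).1 hev, smul_zero],
        by rw [Classical.Herm.smul_self hH, hvv]; simp⟩
    set x := eS hu e ((1 : F) • v) 0 with hxdef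
    have hx : IsU hu e v x 1 := ⟨0, hE 1, fun _ => rfl, rfl⟩
    set H := Subgroup.closure ({h, x * w} : Set (Su n F q))
    refine ⟨h, x * w, ?_⟩
    have hbH : x * w ∈ H := Subgroup.subset_closure (by simp)
    obtain ⟨μ, hμ, hμ'⟩ : ∃ μ : F, mat h *ᵥ v = μ • v ∧ (μ = 1 ∨ μ = σ γ) := by
      by_cases hd : d₀ = m - 1
      · exact ⟨_, by rw [hv, hd]; exact hh1, Or.inr rfl⟩
      · refine ⟨1, ?_, Or.inl rfl⟩
        rw [one_smul, hv]
        refine hhfix _ (P.pos_lt _) ?_ ?_ ?_ ?_ <;>
          exact fun e => by have := hpos _ _ (by omega) (by omega) e; omega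
    obtain ⟨μ', hμ2, hμ2'⟩ : ∃ μ' : F, mat h' *ᵥ v = μ' • v ∧ (μ' = 1 ∨ μ' = γ) := by
      by_cases hd : d₀ = 1
      · refine ⟨γ, ?_, Or.inr rfl⟩
        have := htrans 0 _ hh0
        rwa [hv, hd]
      · refine ⟨1, ?_, Or.inl rfl⟩
        have hm2 : d₀ - 1 ≠ m - 1 := by omega
        have := htrans (d₀ - 1) 1 (by
          rw [one_smul]
          refine hhfix _ (P.pos_lt _) ?_ ?_ ?_ ?_ <;>
            exact fun e => by have := hpos _ _ (by omega) (by omega) e; omega)
        rwa [show d₀ - 1 + 1 = d₀ by omega, ← hv] at this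
    have hall := main v μ μ' x hx hμ hμ2
      (by rcases hμ' with rfl | rfl
          · exact Or.inl (by rw [mul_one, hγv])
          · exact Or.inr (by rw [hγv]; ring))
      (by rcases hμ' with rfl | rfl
          · rwa [mul_one]
          · rwa [← pow_two])
      (by rw [hσinv]
          rcases hμ2' with rfl | rfl
          · rw [mul_one, ne_eq, inv_eq_one]; exact hγ1
          · rw [ne_eq, inv_mul_eq_one₀ hσ0]; exact hσγ)
    have hmem : ∀ y : F, eS hu e (y • v) 0 ∈ H := fun y => by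
      obtain ⟨g, hg, d, -, hd0, rfl⟩ := hall y
      rwa [hd0 hvv] at hg
    have hwH : w ∈ H := by
      have h1 := mul_mem (inv_mem (hmem 1)) hbH
      rwa [← hxdef, inv_mul_cancel_left] at h1
    obtain ⟨s, hs, e1⟩ := hcp d₀
    have hL₀ : LL hu H w e d₀ := ⟨by rw [e1, map_smul, ← hv, hev, smul_zero],
      fun y => by rw [e1, smul_smul, ← hv]; exact hmem _⟩
    have hL := C.L_all hu hwH hL₀ hd₀' hd₀ hcop
    -- the central elements
    have hc : InM hu H e 0 := by
      refine ⟨map_zero _, fun y k hk => ?_⟩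
      rw [smul_zero] at hk ⊢
      have hk' : k + σ k = 0 := by
        have := hk.tr; simpa using this
      have L1 := hL 1 (by rw [Nat.mod_eq_of_lt (by omega)]; omega) (by rw [Nat.mod_eq_of_lt (by omega)]; omega)
      have L2 := hL (1 + m) (by rw [Nat.mod_eq_of_lt (by omega)]; omega) (by rw [Nat.mod_eq_of_lt (by omega)]; omega)
      set κ := hB n σ (cp w e 1) (cp w e (1 + m)) with hκdef
      have hκ : κ ≠ 0 := C.pair' hu 1
      obtain ⟨t, ht⟩ := exists_trace hu.toIsInvol (a := (1 : F)) (map_one σ)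
      obtain ⟨z, hz⟩ : ∃ z : F, z * σ κ = t * k := ⟨t * k / σ κ, div_mul_cancel₀ _ ((map_ne_zero σ).2 hκ)⟩
      have hA := C.isE_LL hu L1.1 z
      have hB' := C.isE_LL hu L2.1 (1 : F)
      have eAB := eS_mul hu hA hB'
      have eBA := eS_mul hu hB' hA
      have hBA' := hB'.mul hu hA
      have e3 := eS_mul hu hBA' (isE_zero C.iso hk')
      set A := eS hu e (z • cp w e 1) 0
      set B := eS hu e ((1 : F) • cp w e (1 + m)) 0
      have hkey : A * B = B * A * eS hu e 0 k := by
        rw [eBA, e3, eAB, add_zero, add_comm ((1 : F) • cp w e (1 + m))]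
        congr 1
        · abel
        have hz' := congrArg σ hz
        simp only [map_mul, hu.invol] at hz'
        simp only [map_smul, map_smulₛₗ, LinearMap.smul_apply, smul_eq_mul, RingHom.id_apply, map_one, one_mul,
          map_zero, ← hκdef, ← hH.symm (cp w e 1) (cp w e (1 + m))]
        linear_combination k * ht + hz - hz' - σ t * hk'
      rw [eq_inv_mul_of_mul_eq hkey.symm]
      exact mul_mem (inv_mem (mul_mem (L2.2 _) (L1.2 _))) (mul_mem (L1.2 _) (L2.2 _))
    refine conclude H hwH hc (fun k hk => ?_) (fun ho => absurd ho (by omega))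
    by_cases hk1 : k % (2 * m) = 0
    · exact hk0 H hc k hk1
    · obtain ⟨s', hs', e2⟩ := hcp k
      have L := hL k hk hk1
      have hep : hB n σ e (p (pos n m k)) = 0 := by
        have := L.1
        rw [e2, map_smul, smul_eq_mul] at this
        exact (mul_eq_zero.1 this).resolve_left hs'
      refine ⟨hep, fun y d hE => ?_⟩
      have h1 := L.2 (y / s')
      have h2 := C.isE_LL hu L.1 (y / s')
      rw [e2, smul_smul, div_mul_cancel₀ _ hs'] at h1 h2
      exact InM.adj hu hc h2 h1 hE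
  · -- odd dimension
    set v := p m with hv
    have hpm : ∀ k, hB n σ (p (pos n m k)) v = 0 := fun k => by
      rw [hv, P.herm _ _ (P.pos_lt _) (by omega), if_neg]
      unfold pos
      have : k % (2 * m) < 2 * m := Nat.mod_lt _ (by omega)
      split_ifs <;> omega
    have T : Tri σ e f v := ⟨HPef, ⟨hpm 0, hpm _⟩, by rw [hv, P.herm _ _ (by omega) (by omega), if_pos (by omega)]⟩
    obtain ⟨d, hd⟩ := exists_trace hu.toIsInvol (a := (-1 : F)) (by rw [map_neg, map_one])
    have hd1 : d + σ d = -(σ (1 : F) * 1) := by rw [map_one, mul_one]; exact hd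
    set x := eS hu e ((1 : F) • v) d with hxdef
    have hx : IsU hu e v x 1 := ⟨d, T.isE hu hd1, fun h0 => absurd (T.ww.symm.trans h0) one_ne_zero, rfl⟩
    set H := Subgroup.closure ({h, x * w} : Set (Su n F q))
    refine ⟨h, x * w, ?_⟩
    have hbH : x * w ∈ H := Subgroup.subset_closure (by simp)
    have hall := main v 1 1 x hx (by rw [one_smul]; exact hhm hodd) (by rw [one_smul]; exact hhm' hodd)
      (Or.inl (by rw [mul_one, hγv])) (by rwa [mul_one])
      (by rw [mul_one, hσinv, ne_eq, inv_eq_one]; exact hγ1)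
    have hP : ∀ y, y ∈ par hu T H := fun y => by
      obtain ⟨g, hg, d', hE', -, rfl⟩ := hall y
      refine ⟨d', ?_, hg⟩
      have h2 := hE'.tr
      rw [Classical.Herm.smul_self hH, T.ww, mul_one] at h2
      linear_combination h2
    have hxH : x ∈ H := all_of_par hu T hP hd1
    have hwH : w ∈ H := by
      have h1 := mul_mem (inv_mem hxH) hbH
      rwa [inv_mul_cancel_left] at h1
    have hMv : InM hu H e v := ⟨hpm 0, fun y d' hE' => all_of_par hu T hP (by
      have h2 := hE'.tr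
      rw [Classical.Herm.smul_self hH, T.ww, mul_one] at h2
      linear_combination h2)⟩
    have hc : InM hu H e 0 := by
      have := InM.smul hu hMv (0 : F)
      rwa [zero_smul] at this
    refine conclude H hwH hc (fun k hk => ?_) (fun _ => hMv)
    obtain ⟨s, hs, e1⟩ := hcp k
    have hek : hB n σ e (p (pos n m k)) = 0 := by
      have := C.perp k hk
      rw [e1, map_smul, smul_eq_mul] at this
      exact (mul_eq_zero.1 this).resolve_left hs
    refine ⟨hek, fun y d' hE' => ?_⟩
    have hwv : ∀ j, mat (w ^ j) *ᵥ v = v := fun j => by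
      induction j with
      | zero => rw [pow_zero, mat_one_mulVec]
      | succ j ih => rw [pow_succ, mat_mul_mulVec, hwu hodd, ih]
    have hg : eS hu (cp w e k) v d ∈ H := by
      have h1 := mul_mem (mul_mem (pow_mem hwH k) hxH) (inv_mem (pow_mem hwH k))
      rwa [hxdef, suConj hu _ (T.isE hu hd1), Matrix.mulVec_smul, hwv, one_smul] at h1
    have hgE : IsE σ (cp w e k) v d := by
      have h1 := (T.isE hu hd1).conjS hu (w ^ k)
      rwa [Matrix.mulVec_smul, hwv, one_smul] at h1
    have hge : mat (eS hu (cp w e k) v d) *ᵥ e = e := by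
      rw [eS_mulVec hu hgE, (eq_zero_comm hH).1 (C.perp k hk), (eq_zero_comm hH).1 (hpm 0)]
      simp
    set z := -(y / s) with hz
    obtain ⟨d₁, hd₁⟩ := exists_d hu (z • v)
    have hzE : IsE σ e (z • v) d₁ := InM.isE hu C.iso hMv.1 z hd₁
    have h2 := comm_step hu hg hge hzE (hMv.2 _ _ hzE)
    have hcv : hB n σ (cp w e k) v = 0 := by
      rw [e1, map_smulₛₗ, LinearMap.smul_apply, hpm, smul_zero]
    have e3 : mat (eS hu (cp w e k) v d) *ᵥ (z • v) - z • v = y • p (pos n m k) := by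
      rw [eS_mulVec hu hgE]
      simp only [map_smul, smul_eq_mul, hcv, T.ww, mul_one, mul_zero, zero_smul, add_zero, zero_sub,
        add_sub_cancel_left]
      rw [e1, smul_smul, hz, neg_neg, div_mul_cancel₀ _ hs]
    rw [e3] at h2
    refine InM.adj hu hc ?_ h2 hE'
    refine InM.isE hu C.iso hek y ?_
    simp only [map_smul, map_smulₛₗ, LinearMap.smul_apply, smul_eq_mul, hpm, mul_zero, map_zero, add_zero]
    rw [P.herm _ _ (P.pos_lt _) (P.pos_lt _), if_neg (fun h' => by
      rw [← pos_mod n m k] at h'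
      have h3 := (P.pos_sum (Nat.mod_lt k (by omega)) (Nat.mod_lt k (by omega))).1 h'
      omega)]
    simp

end Cfsg.Agent.SUTwoGen
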