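import Cfsg.Agent.SUGen.Odd.Closure
import Cfsg.Agent.SUGen.Three
import Cfsg.Agent.AutPSU.Structure
import Cfsg.Agent.FormTri.Unitary

/-!
A hyperbolic frame of a Hermitian space of any dimension, the monomial cycle of its points and a torus element.
-/

set_option autoImplicit false
set_option linter.unusedSectionVars false
set_option linter.unusedSimpArgs false

namespace Cfsg.Agent.SUTwoGen

open Matrix Classical.Herm Cfsg.Agent.AutPSU Cfsg.Agent.SUGen Module

variable {n q : ℕ} {F : Type*} [Field F] [Fintype F] {σ : F →+* F}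

/-- A frame with antidiagonal Gram matrix. -/
structure GFrame (σ : F →+* F) (m : ℕ) (p : ℕ → Vn n F) : Prop where
  dim : n = 2 * m ∨ n = 2 * m + 1
  two : 2 ≤ m
  herm : ∀ i j, i < n → j < n → hB n σ (p i) (p j) = if i + j + 1 = n then 1 else 0
  span : ∀ x : Vn n F, ∃ c : Fin n → F, x = ∑ i, c i • p i

/-- The position in the frame of a point of the cycle. -/
def pos (n m k : ℕ) : ℕ := if k % (2 * m) < m then k % (2 * m) else n - 1 - (k % (2 * m) - m)

/-- The permutation of the frame inducing the cycle. -/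
def nxt (n m i : ℕ) : ℕ :=
  if i < m then (if i + 1 < m then i + 1 else n - 1)
  else if i < n - m then i
  else if n - m < i then i - 1 else 0

variable {m : ℕ} {p : ℕ → Vn n F}

theorem GFrame.pos_lt (P : GFrame σ m p) (k : ℕ) : pos n m k < n := by
  have := P.dim
  have := P.two
  unfold pos
  split_ifs <;> omega

theorem GFrame.pos_sum (P : GFrame σ m p) {i j : ℕ} (hi : i < 2 * m) (hj : j < 2 * m) :
    pos n m i + pos n m j + 1 = n ↔ i + m = j ∨ j + m = i := by
  have := P.dim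
  have := P.two
  unfold pos
  rw [Nat.mod_eq_of_lt hi, Nat.mod_eq_of_lt hj]
  split_ifs <;> omega

theorem GFrame.nxt_lt (P : GFrame σ m p) {i : ℕ} (hi : i < n) : nxt n m i < n := by
  have := P.dim
  have := P.two
  unfold nxt
  split_ifs <;> omega

theorem GFrame.nxt_rev (P : GFrame σ m p) {i j : ℕ} (hi : i < n) (hj : j < n) :
    nxt n m i + nxt n m j + 1 = n ↔ i + j + 1 = n := by
  have := P.dim
  have := P.two
  unfold nxt
  split_ifs <;> omega

omit [Fintype F] in
theorem pos_mod (n m k : ℕ) : pos n m (k % (2 * m)) = pos n m k := by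
  unfold pos; rw [Nat.mod_mod]

theorem GFrame.nxt_pos (P : GFrame σ m p) (k : ℕ) : nxt n m (pos n m k) = pos n m (k + 1) := by
  have := P.dim
  have := P.two
  have hlt : k % (2 * m) < 2 * m := Nat.mod_lt _ (by omega)
  rw [← pos_mod n m k, ← pos_mod n m (k + 1)]
  have e : (k + 1) % (2 * m) = if k % (2 * m) + 1 = 2 * m then 0 else k % (2 * m) + 1 := by
    rw [← Nat.mod_add_mod]
    split_ifs with h
    · rw [h, Nat.mod_self]
    · exact Nat.mod_eq_of_lt (by omega)
  rw [e]
  generalize k % (2 * m) = r at hlt ⊢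
  by_cases h : r + 1 = 2 * m
  · rw [if_pos h]
    unfold pos nxt
    rw [Nat.mod_eq_of_lt hlt, Nat.zero_mod]
    split_ifs <;> omega
  · rw [if_neg h]
    unfold pos nxt
    rw [Nat.mod_eq_of_lt hlt, Nat.mod_eq_of_lt (by omega : r + 1 < 2 * m)]
    split_ifs <;> omega

variable (hu : UCtx σ q)
include hu

theorem exists_gframe (hn : n = 2 * m ∨ n = 2 * m + 1) (hm : 2 ≤ m) : ∃ p : ℕ → Vn n F, GFrame σ m p := by
  obtain ⟨P, hP⟩ := FormTri.Unitary.exists_basis n hu.toIsInvol
  set A := (P : Matrix (Fin n) (Fin n) F) with hA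
  set B := ((P⁻¹ : GL (Fin n) F) : Matrix (Fin n) (Fin n) F) with hB'
  have hAB : A * B = 1 := by rw [hA, hB', ← Units.val_mul, mul_inv_cancel, Units.val_one]
  have hBA : B * A = 1 := by rw [hA, hB', ← Units.val_mul, inv_mul_cancel, Units.val_one]
  let p : ℕ → Vn n F := fun k => if h : k < n then fun r => B r ⟨k, h⟩ else 0
  have hcol : ∀ i : Fin n, p i = fun r => B r i := fun i => dif_pos i.2
  have hJ : Bᵀ * B.map σ = (FormTri.Unitary.ctx n hu.toIsInvol).J := by
    have hAB' : A.map σ * B.map σ = 1 := by rw [← Matrix.map_mul, hAB, Matrix.map_one _ (map_zero σ) (map_one σ)]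
    have : Bᵀ * (Aᵀ * (FormTri.Unitary.ctx n hu.toIsInvol).J * A.map σ) * B.map σ =
        (FormTri.Unitary.ctx n hu.toIsInvol).J := by
      simp only [← Matrix.mul_assoc]
      rw [← Matrix.transpose_mul, hAB, Matrix.transpose_one, Matrix.one_mul, Matrix.mul_assoc, hAB', Matrix.mul_one]
    rwa [hP, Matrix.mul_one] at this
  refine ⟨p, hn, hm, fun i j hi hj => ?_, fun x => ⟨A *ᵥ x, ?_⟩⟩
  · have h := congrArg σ (congrFun (congrFun hJ ⟨i, hi⟩) ⟨j, hj⟩)
    rw [Matrix.mul_apply, map_sum] at h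
    rw [show p i = fun r => B r ⟨i, hi⟩ from dif_pos hi, show p j = fun r => B r ⟨j, hj⟩ from dif_pos hj,
      Classical.hermB_apply]
    refine (Finset.sum_congr rfl fun r _ => ?_).trans (h.trans ?_)
    · simp [hu.invol, mul_comm]
    · have he : ((⟨j, hj⟩ : Fin n) = Fin.rev ⟨i, hi⟩) ↔ i + j + 1 = n := by
        simp only [Fin.ext_iff, Fin.val_rev]
        omega
      simp [FormTri.J_apply, FormTri.Unitary.ctx, apply_ite σ, he]
  · conv_lhs => rw [← Matrix.one_mulVec x, ← hBA, ← Matrix.mulVec_mulVec]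
    funext r
    simp only [Finset.sum_apply, Pi.smul_apply, hcol, smul_eq_mul]
    rw [Matrix.mulVec, dotProduct]
    exact Finset.sum_congr rfl fun i _ => mul_comm _ _

omit [Fintype F] in
theorem GFrame.coord (P : GFrame σ m p) {x : Vn n F} {c : Fin n → F} (h : x = ∑ i, c i • p i) (j : Fin n) :
    c j = hB n σ (p (n - 1 - j)) x := by
  have := j.2
  rw [h, map_sum, Finset.sum_eq_single j]
  · rw [map_smul, P.herm _ _ (by omega) j.2, if_pos (by omega), smul_eq_mul, mul_one]
  · intro i _ hi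
    rw [map_smul, P.herm _ _ (by omega) i.2, if_neg (fun e => hi (Fin.ext (by omega))), smul_zero]
  · simp

theorem GFrame.hp_pos (P : GFrame σ m p) {k : ℕ} (hk : k < m) :
    HP σ (p (pos n m k)) (p (pos n m (k + m))) := by
  refine ⟨?_, ?_, ?_⟩ <;> rw [P.herm _ _ (P.pos_lt _) (P.pos_lt _)]
  · rw [if_neg]; rw [P.pos_sum (by omega) (by omega)]; omega
  · rw [if_neg]; rw [P.pos_sum (by omega) (by omega)]; omega
  · rw [if_pos]; rw [P.pos_sum (by omega) (by omega)]; omega

theorem GFrame.inW_pos (P : GFrame σ m p) {k : ℕ} (hk : k < m) {i : ℕ} (hi : i < n) (h1 : i ≠ pos n m k)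
    (h2 : i ≠ pos n m (k + m)) : InW σ (p (pos n m k)) (p (pos n m (k + m))) (p i) := by
  have hs := (P.pos_sum (i := k) (j := k + m) (by omega) (by omega)).2 (Or.inl rfl)
  constructor <;> rw [P.herm _ _ (P.pos_lt _) hi, if_neg]
  · intro e; apply h2; omega
  · intro e; apply h1; omega

/-- The cycle of the points of the frame as a special unitary element. -/
theorem GFrame.exists_cycle (P : GFrame σ m p) : ∃ w : Su n F q,
    (∀ k, ∃ s : F, s ≠ 0 ∧ mat w *ᵥ p (pos n m k) = s • p (pos n m (k + 1))) ∧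
      (n = 2 * m + 1 → mat w *ᵥ p m = p m) := by
  classical
  have hd := P.dim
  have hm := P.two
  choose co hco using P.span
  let L : Vn n F →ₗ[F] Vn n F := ∑ i : Fin n, (hB n σ (p (n - 1 - i))).smulRight (p (nxt n m i))
  have hLa : ∀ x, L x = ∑ i : Fin n, co x i • p (nxt n m i) := fun x => by
    rw [LinearMap.sum_apply]
    exact Finset.sum_congr rfl fun i _ => by rw [LinearMap.smulRight_apply, ← P.coord hu (hco x) i]
  have hLp : ∀ j, j < n → L (p j) = p (nxt n m j) := by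
    intro j hj
    rw [LinearMap.sum_apply, Finset.sum_eq_single (⟨j, hj⟩ : Fin n)]
    · rw [LinearMap.smulRight_apply, P.herm _ _ (by simp only; omega) hj, if_pos (by simp only; omega), one_smul]
    · intro i _ hi
      have := i.2
      rw [LinearMap.smulRight_apply, P.herm _ _ (by omega) hj,
        if_neg (fun e => hi (Fin.ext (by simp only; omega))), zero_smul]
    · simp
  obtain ⟨g, hg⟩ := exists_gu hu L fun x y => by
    conv_rhs => rw [hco x, hco y]
    rw [hLa x, hLa y]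
    simp only [map_sum, map_smulₛₗ, LinearMap.sum_apply, LinearMap.smul_apply, smul_eq_mul, RingHom.id_apply,
      Finset.mul_sum]
    refine Finset.sum_congr rfl fun i _ => Finset.sum_congr rfl fun j _ => ?_
    rw [P.herm _ _ (P.nxt_lt j.2) (P.nxt_lt i.2), P.herm _ _ j.2 i.2,
      if_congr (P.nxt_rev j.2 i.2) rfl rfl]
  have hz := norm_ker_val hu (detU hu g)
  rw [detU_coe] at hz
  set z := (gmat g.1).det with hzdef
  obtain ⟨c, hc, hcz⟩ := exists_conj_quot hu.toIsInvol (y := z⁻¹) (by rw [map_inv₀, ← mul_inv, hz, inv_one])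
  obtain ⟨D, hD1, hD2, hD3, hD4⟩ := (P.hp_pos hu (k := 0) (by omega)).exists_dil hu hc
  obtain ⟨w, hw⟩ := exists_su_of_gu hu (D * g) (by
    simp only [Subgroup.coe_mul, gmat, Units.val_mul, Matrix.det_mul]
    rw [show ((D.1 : GL (Fin n) F) : Matrix (Fin n) (Fin n) F).det = _ from hD4,
      show ((g.1 : GL (Fin n) F) : Matrix (Fin n) (Fin n) F).det = z from rfl,
      show c * (σ c)⁻¹ = z⁻¹ by rw [← div_eq_mul_inv, hcz], inv_mul_cancel₀ (left_ne_zero_of_mul_eq_one hz)])
  have hwp : ∀ j, j < n → mat w *ᵥ p j = gmat D.1 *ᵥ p (nxt n m j) := fun j hj => by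
    rw [hw, ← hLp j hj, ← hg, Matrix.mulVec_mulVec]
    simp [gmat]
  refine ⟨w, fun k => ?_, fun hodd => ?_⟩
  · rw [hwp _ (P.pos_lt k), P.nxt_pos]
    by_cases h1 : pos n m (k + 1) = pos n m 0
    · exact ⟨c, hc, by rw [h1, hD1]⟩
    by_cases h2 : pos n m (k + 1) = pos n m (0 + m)
    · exact ⟨(σ c)⁻¹, inv_ne_zero ((map_ne_zero σ).2 hc), by rw [h2, hD2]⟩
    · exact ⟨1, one_ne_zero, by rw [one_smul, hD3 _ (P.inW_pos hu (by omega) (P.pos_lt _) h1 h2)]⟩
  · rw [hwp _ (by omega), show nxt n m m = m by unfold nxt; split_ifs <;> omega]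
    refine hD3 _ (P.inW_pos hu (by omega) (by omega) ?_ ?_) <;>
      (unfold pos; rw [Nat.mod_eq_of_lt (by omega)]; split_ifs <;> omega)

/-- The torus element with `γ` at the first point and `σ γ` at the last one of the first half. -/
theorem GFrame.exists_torus (P : GFrame σ m p) {γ : F} (hγ : γ ≠ 0) : ∃ h : Su n F q,
    mat h *ᵥ p (pos n m 0) = γ • p (pos n m 0) ∧ mat h *ᵥ p (pos n m (m - 1)) = σ γ • p (pos n m (m - 1)) ∧
    mat h *ᵥ p (pos n m (m - 1 + m)) = γ⁻¹ • p (pos n m (m - 1 + m)) ∧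
    mat h *ᵥ p (pos n m (0 + m)) = (σ γ)⁻¹ • p (pos n m (0 + m)) ∧
    ∀ i, i < n → i ≠ pos n m 0 → i ≠ pos n m (0 + m) → i ≠ pos n m (m - 1) → i ≠ pos n m (m - 1 + m) →
      mat h *ᵥ p i = p i := by
  have hd := P.dim
  have hm := P.two
  obtain ⟨D, hD1, hD2, hD3, hD4⟩ := (P.hp_pos hu (k := 0) (by omega)).exists_dil hu hγ
  obtain ⟨D', hE1, hE2, hE3, hE4⟩ := (P.hp_pos hu (k := m - 1) (by omega)).exists_dil hu ((map_ne_zero σ).2 hγ)
  rw [hu.invol] at hE2
  obtain ⟨h, hh⟩ := exists_su_of_gu hu (D * D') (by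
    simp only [Subgroup.coe_mul, gmat, Units.val_mul, Matrix.det_mul]
    rw [show ((D.1 : GL (Fin n) F) : Matrix (Fin n) (Fin n) F).det = _ from hD4,
      show ((D'.1 : GL (Fin n) F) : Matrix (Fin n) (Fin n) F).det = _ from hE4, hu.invol]
    field_simp [(map_ne_zero σ).2 hγ, hγ])
  have hv : ∀ x, mat h *ᵥ x = gmat D.1 *ᵥ (gmat D'.1 *ᵥ x) := fun x => by
    rw [hh, Matrix.mulVec_mulVec]; simp [gmat]
  have hlt := P.pos_lt
  have hne : ∀ i j, i < 2 * m → j < 2 * m → i ≠ j → pos n m i ≠ pos n m j := fun i j hi hj hij => by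
    unfold pos
    rw [Nat.mod_eq_of_lt hi, Nat.mod_eq_of_lt hj]
    split_ifs <;> omega
  have hEf : ∀ i, i < n → i ≠ pos n m (m - 1) → i ≠ pos n m (m - 1 + m) → gmat D'.1 *ᵥ p i = p i :=
    fun i hi h1 h2 => hE3 _ (P.inW_pos hu (by omega) hi h1 h2)
  have hDf : ∀ i, i < n → i ≠ pos n m 0 → i ≠ pos n m (0 + m) → gmat D.1 *ᵥ p i = p i :=
    fun i hi h1 h2 => hD3 _ (P.inW_pos hu (by omega) hi h1 h2)
  refine ⟨h, ?_, ?_, ?_, ?_, fun i hi h1 h2 h3 h4 => ?_⟩
  · rw [hv, hEf _ (hlt _) (hne _ _ (by omega) (by omega) (by omega)) (hne _ _ (by omega) (by omega) (by omega)), hD1]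
  · rw [hv, hE1, Matrix.mulVec_smul,
      hDf _ (hlt _) (hne _ _ (by omega) (by omega) (by omega)) (hne _ _ (by omega) (by omega) (by omega))]
  · rw [hv, hE2, Matrix.mulVec_smul,
      hDf _ (hlt _) (hne _ _ (by omega) (by omega) (by omega)) (hne _ _ (by omega) (by omega) (by omega))]
  · rw [hv, hEf _ (hlt _) (hne _ _ (by omega) (by omega) (by omega)) (hne _ _ (by omega) (by omega) (by omega)), hD2]
  · rw [hv, hEf i hi h3 h4, hDf i hi h1 h2]

end Cfsg.Agent.SUTwoGen
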