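import Cfsg.Agent.SUTwoGen.Frame
import Cfsg.Agent.SpTwoGen.Main

/-!
Root elements along one line at an isotropic point, and the subgroup generated by a torus element and a root
element times a monomial element.
-/

set_option autoImplicit false
set_option linter.unusedSectionVars false
set_option linter.unusedSimpArgs false

namespace Cfsg.Agent.SUTwoGen

open Matrix Classical.Herm Cfsg.Agent.AutPSU Cfsg.Agent.SUGen
open scoped commutatorElement

variable {n q : ℕ} {F : Type*} [Field F] [Fintype F] {σ : F →+* F} (hu : UCtx σ q) {e v : Vn n F}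
include hu

/-- A root element along the line of `v` with coefficient `y`. -/
def IsU (e v : Vn n F) (g : Su n F q) (y : F) : Prop :=
  ∃ d, IsE σ e (y • v) d ∧ (hB n σ v v = 0 → d = 0) ∧ g = eS hu e (y • v) d

theorem IsU.mul {g g' : Su n F q} {y y' : F} (h : IsU hu e v g y) (h' : IsU hu e v g' y') :
    IsU hu e v (g * g') (y + y') := by
  obtain ⟨d, hE, hd, rfl⟩ := h
  obtain ⟨d', hE', hd', rfl⟩ := h'
  refine ⟨d + d' - hB n σ (y • v) (y' • v), ?_, fun h0 => ?_, ?_⟩
  · rw [add_smul]; exact hE.mul hu hE'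
  · rw [hd h0, hd' h0]; simp [h0]
  · rw [eS_mul hu hE hE', add_smul]

theorem IsU.inv {g : Su n F q} {y : F} (h : IsU hu e v g y) : IsU hu e v g⁻¹ (-y) := by
  obtain ⟨d, hE, hd, rfl⟩ := h
  refine ⟨σ d, ?_, fun h0 => by rw [hd h0, map_zero], ?_⟩
  · rw [neg_smul]
    exact ⟨hE.ee, by rw [map_neg, LinearMap.neg_apply, hE.ae, neg_zero], by
      rw [hu.invol]; simp only [map_neg, LinearMap.neg_apply, neg_neg]; linear_combination hE.tr⟩
  · rw [SUGen.eS_inv hu hE, neg_smul]

theorem IsU.conj {g k : Su n F q} {y lam μ : F} (hlam : lam ≠ 0) (he : mat k *ᵥ e = lam • e)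
    (hv : mat k *ᵥ v = μ • v) (h : IsU hu e v g y) : IsU hu e v (k * g * k⁻¹) (σ lam * μ * y) := by
  obtain ⟨d, hE, hd, rfl⟩ := h
  have hE' := hE.conjS hu k
  rw [he, Matrix.mulVec_smul, hv] at hE'
  obtain ⟨e1, hE1⟩ := eS_scale hu lam hE' hlam
  have hvec : σ lam • y • μ • v = (σ lam * μ * y) • v := by module
  rw [hvec] at e1 hE1
  refine ⟨lam * σ lam * d, hE1, fun h0 => by rw [hd h0, mul_zero], ?_⟩
  rw [suConj hu k hE, he, Matrix.mulVec_smul, hv, e1]

/-- The coefficients of the root elements of a subgroup. -/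
def parU (e v : Vn n F) (he : hB n σ e e = 0) (H : Subgroup (Su n F q)) : AddSubgroup F where
  carrier := {y | ∃ g ∈ H, IsU hu e v g y}
  zero_mem' := ⟨1, one_mem H, 0, by rw [zero_smul]; exact isE_zero he (by simp), fun _ => rfl,
    by rw [zero_smul]; exact (eS_zero hu he).symm⟩
  add_mem' := by
    rintro y y' ⟨g, hg, h⟩ ⟨g', hg', h'⟩
    exact ⟨_, mul_mem hg hg', h.mul hu h'⟩
  neg_mem' := by
    rintro y ⟨g, hg, h⟩
    exact ⟨_, inv_mem hg, h.inv hu⟩

/-- A root element obtained from a torus element and a root element times another element. -/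
theorem commutator_root {x h h' : Su n F q} {y₀ lam μ lam' μ' : F} (hx : IsU hu e v x y₀) (hlam : lam ≠ 0)
    (hlam' : lam' ≠ 0) (he : mat h *ᵥ e = lam • e) (hv : mat h *ᵥ v = μ • v)
    (he' : mat h' *ᵥ e = lam' • e) (hv' : mat h' *ᵥ v = μ' • v) (hcomm : Commute h h') :
    IsU hu e v ⁅h, x * h' * x⁻¹⁆ ((σ lam * μ - 1) * (1 - σ lam' * μ') * y₀) := by
  set X := h * x * h⁻¹ with hX
  have h1 : IsU hu e v X (σ lam * μ * y₀) := hx.conj hu hlam he hv
  have h2 := (h1.mul hu (((h1.inv hu).mul hu hx).conj hu hlam' he' hv')).mul hu (hx.inv hu)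
  have e1 : ⁅h, x * h' * x⁻¹⁆ = X * (h' * (X⁻¹ * x) * h'⁻¹) * x⁻¹ := by
    have e2 : h * h' * h⁻¹ = h' := by rw [hcomm.eq, mul_inv_cancel_right]
    have e3 : h * (x * h' * x⁻¹) * h⁻¹ = X * h' * X⁻¹ := by
      conv_rhs => rw [← e2, hX]
      group
    rw [commutatorElement_def, e3]
    group
  rw [e1]
  convert h2 using 1
  ring

/-- Closed under a power of a generator of the field and nontrivial, the coefficients are everything. -/
theorem parU_top {he0 : hB n σ e e = 0} {H : Subgroup (Su n F q)} {h : Su n F q} (hh : h ∈ H) {lam μ y₀ : F}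
    (hlam : lam ≠ 0) (he : mat h *ᵥ e = lam • e) (hv : mat h *ᵥ v = μ • v) (hy : y₀ ∈ parU hu e v he0 H)
    (hy0 : y₀ ≠ 0) {γ : Fˣ} (hγ : ∀ x : Fˣ, x ∈ Subgroup.zpowers γ)
    (hα : σ lam * μ = γ ∨ σ lam * μ = (γ : F) ^ 2) (y : F) : y ∈ parU hu e v he0 H := by
  let S : AddSubgroup F :=
    { carrier := {t | t * y₀ ∈ parU hu e v he0 H}
      zero_mem' := by show (0 : F) * y₀ ∈ parU hu e v he0 H; rw [zero_mul]; exact zero_mem _
      add_mem' := fun {a b} ha hb => by show (a + b) * y₀ ∈ parU hu e v he0 H; rw [add_mul]; exact add_mem ha hb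
      neg_mem' := fun {a} ha => by show -a * y₀ ∈ parU hu e v he0 H; rw [neg_mul]; exact neg_mem ha }
  have hm : ∀ t ∈ S, σ lam * μ * t ∈ S := fun t ht => by
    obtain ⟨g, hg, hU⟩ := ht
    show σ lam * μ * t * y₀ ∈ parU hu e v he0 H
    rw [mul_assoc (σ lam * μ)]
    exact ⟨_, mul_mem (mul_mem hh hg) (inv_mem hh), hU.conj hu hlam he hv⟩
  have hall : ∀ t, t ∈ S := by
    refine SpTwoGen.eq_top_of_sq S (show (1 : F) * y₀ ∈ _ by rwa [one_mul]) γ hγ fun t ht => ?_
    rcases hα with e1 | e1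
    · rw [pow_two, mul_assoc, ← e1]; exact hm _ (hm _ ht)
    · rw [← e1]; exact hm _ ht
  have := hall (y / y₀)
  change y / y₀ * y₀ ∈ parU hu e v he0 H at this
  rwa [div_mul_cancel₀ _ hy0] at this

/-- Swapping the two vectors of a root element with orthogonal isotropic vectors. -/
theorem eS_swap {c : Vn n F} (hee : hB n σ e e = 0) (hcc : hB n σ c c = 0) (hce : hB n σ c e = 0) (x : F) :
    eS hu c (x • e) 0 = eS hu e ((-σ x) • c) 0 := by
  have hec : hB n σ e c = 0 := (eq_zero_comm (hu.isHerm n)).1 hce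
  have h1 : IsE σ c (x • e) 0 := ⟨hcc, by simp [hec], by simp [hee]⟩
  have h2 : IsE σ e ((-σ x) • c) 0 := ⟨hee, by simp [hce], by simp [hcc]⟩
  refine su_ext_mulVec fun y => ?_
  rw [eS_mulVec hu h1, eS_mulVec hu h2]
  simp only [map_smulₛₗ, LinearMap.smul_apply, smul_eq_mul, map_neg, hu.invol]
  match_scalars <;> ring

end Cfsg.Agent.SUTwoGen
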